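import Groth.Agent.Lib.Modules.DualBasis
import Groth.Agent.Lib.TensorMod.Basis

/-!
Bidual sections of a finite locally free module, and the dual is finite locally free.
-/

set_option autoImplicit false
universe u

open CategoryTheory AlgebraicGeometry Opposite TopologicalSpace
open Groth.Agent.Lib.TensorMod
open Groth.Agent.Lib.TensorMod.Dual
open Groth.Agent.Lib.TensorMod.Basis (comb IsBasis)
open Groth.Agent.Lib.Modules.DualBasis
open Groth.Agent.Lib.Modules.TensorSec

namespace Groth.Agent.H95.LefFEt.Bidual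

variable {X : Scheme.{u}} {E M : X.Modules}

lemma eval_natural (x : Γ(E, ⊤)) {U V : X.Opens} (h : V ≤ U) (φ : DualSec E U) :
    (dualRes E h φ).app le_rfl (rs E le_top x) = rf h (φ.app le_rfl (rs E le_top x)) := by
  rw [dualRes_app, DualSec.compat, rs_rs]

lemma eval_smul (x : Γ(E, ⊤)) {U : X.Opens} (r : Γ(X, U)) (φ : DualSec E U) :
    (r • φ).app le_rfl (rs E le_top x) = r * φ.app le_rfl (rs E le_top x) := by
  rw [Dual.smul_app, Dual.rf_self]

/-- Evaluation of forms at a global section. -/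
noncomputable def evalHom (x : Γ(E, ⊤)) : dual E ⟶ Coh.structureModule X :=
  ⟨PresheafOfModules.homMk
    { app := fun U => AddCommGrpCat.ofHom
        (AddMonoidHom.mk' (fun φ : DualSec E U.unop => φ.app le_rfl (rs E le_top x))
          fun a b => Dual.add_app E a b le_rfl _)
      naturality := fun U V i => by
        ext φ
        exact eval_natural x i.unop.le φ }
    (fun U r φ => eval_smul x r φ)⟩

lemma evalHom_app (x : Γ(E, ⊤)) (V : X.Opens) (φ : DualSec E V) :
    (evalHom x).app V φ = φ.app le_rfl (rs E le_top x) := rfl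

/-- Sections are detected by forms. -/
lemma eq_of_forms (hE : HasDBases E) {V : X.Opens} {a b : Γ(E, V)}
    (h : ∀ (W : X.Opens) (hW : W ≤ V) (φ : DualSec E W),
      φ.app le_rfl (rs E hW a) = φ.app le_rfl (rs E hW b)) : a = b := by
  refine section_ext _ _ _ fun x hx => ?_
  obtain ⟨W, n, hxW, hWV, ⟨B⟩⟩ := exists_dBasis_le hE hx
  refine ⟨W, hWV, hxW, ?_⟩
  rw [← B.sum_eq W le_rfl (rs E hWV a), ← B.sum_eq W le_rfl (rs E hWV b)]
  exact Finset.sum_congr rfl fun i _ => by rw [h W hWV (B.f i)]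

lemma evalHom_injective (hE : HasDBases E) : Function.Injective (evalHom (E := E)) := fun x y h => by
  refine eq_of_forms hE fun W hW φ => ?_
  have := congrArg (fun ψ : dual E ⟶ Coh.structureModule X => ψ.app W φ) h
  exact this

theorem evalHom_surjective (hE : HasDBases E) (φ : dual E ⟶ Coh.structureModule X) :
    ∃ x, evalHom x = φ := by
  choose U n hxU hb using hE
  let B := fun p => (hb p).some
  let a : ∀ p, Γ(E, U p) := fun p =>
    ∑ i, (show Γ(X, U p) from φ.app (U p) ((B p).f i)) • (B p).e i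
  have key : ∀ (p : X) (W : X.Opens) (hW : W ≤ U p) (ψ : DualSec E W),
      ψ.app le_rfl (rs E hW (a p)) = (show Γ(X, W) from φ.app W ψ) := by
    intro p W hW ψ
    have h1 := sum_dual ((B p).res hW) ψ
    have h2 := congrArg (fun z : DualSec E W => (show Γ(X, W) from φ.app W z)) h1
    simp only at h2
    rw [← h2]
    have h3 : rs E hW (a p) = ∑ i, rs E hW ((show Γ(X, U p) from φ.app (U p) ((B p).f i)) • (B p).e i) :=
      Basis.rs_sum E hW _ _
    rw [h3, map_sum]
    refine Eq.symm ((map_sum (φ.app W).hom _ _).trans (Finset.sum_congr rfl fun i _ => ?_))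
    rw [rs_smul, map_smul, smul_eq_mul, mul_comm]
    refine (Scheme.Modules.Hom.app_smul φ _ _).trans ?_
    exact congrArg (fun z : Γ(X, W) => (show Γ(X, W) from ψ.app le_rfl (((B p).res hW).e i)) * z) (HomGlue.rs_app φ hW ((B p).f i)).symm
  have hcompat : ∀ p q, rs E (inf_le_left : U p ⊓ U q ≤ U p) (a p) = rs E inf_le_right (a q) :=
    fun p q => eq_of_forms (fun x => ⟨U x, n x, hxU x, hb x⟩) fun W hW ψ => by
      rw [rs_rs, rs_rs, key, key]
  obtain ⟨x, hx, -⟩ := TopCat.Sheaf.existsUnique_gluing' (⟨E.presheaf, E.isSheaf⟩ : TopCat.Sheaf Ab X)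
    U ⊤ (fun p => homOfLE le_top) (fun y _ => Opens.mem_iSup.mpr ⟨y, hxU y⟩) a hcompat
  refine ⟨x, Scheme.Modules.hom_ext _ _ fun V => ?_⟩
  ext ψ
  refine section_ext _ _ _ fun y hy => ⟨V ⊓ U y, inf_le_left, ⟨hy, hxU y⟩, ?_⟩
  rw [HomGlue.rs_app, HomGlue.rs_app]
  refine Eq.trans ?_ (key y _ inf_le_right (dualRes E inf_le_left ψ))
  show (dualRes E inf_le_left (show DualSec E V from ψ)).app le_rfl (rs E le_top x) = _
  have : rs E (le_top : V ⊓ U y ≤ ⊤) x = rs E (inf_le_right : V ⊓ U y ≤ U y) (a y) := by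
    rw [← hx y]; exact (rs_rs E le_top (inf_le_right : V ⊓ U y ≤ U y) x).symm
  rw [this]

lemma comb_add {U V : X.Opens} {n : ℕ} (e : Fin n → Γ(E, U)) (h : V ≤ U) (a b : Fin n → Γ(X, V)) :
    comb e h (a + b) = comb e h a + comb e h b := by
  simp only [comb, Pi.add_apply, add_smul, Finset.sum_add_distrib]

lemma comb_smul {U V : X.Opens} {n : ℕ} (e : Fin n → Γ(E, U)) (h : V ≤ U) (r : Γ(X, V))
    (a : Fin n → Γ(X, V)) : comb e h (r • a) = r • comb e h a := by
  simp only [comb, Pi.smul_apply, smul_eq_mul, mul_smul, Finset.smul_sum]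

/-- The coordinates in a basis. -/
noncomputable def coordAt {U : X.Opens} {n : ℕ} {e : Fin n → Γ(E, U)} (he : IsBasis e)
    (V : X.Opens) (hV : V ≤ U) : Γ(E, V) →ₗ[Γ(X, V)] Fin n → Γ(X, V) where
  toFun := (Equiv.ofBijective _ (he V hV)).symm
  map_add' x y := (he V hV).1 (by
    rw [comb_add]; simp only [Equiv.ofBijective_apply_symm_apply])
  map_smul' r x := (he V hV).1 (by
    rw [RingHom.id_apply, comb_smul]; simp only [Equiv.ofBijective_apply_symm_apply])

lemma comb_coordAt {U : X.Opens} {n : ℕ} {e : Fin n → Γ(E, U)} (he : IsBasis e)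
    {V : X.Opens} (hV : V ≤ U) (x : Γ(E, V)) : comb e hV (coordAt he V hV x) = x :=
  Equiv.ofBijective_apply_symm_apply _ (he V hV) x

/-- The coordinate forms of a basis. -/
noncomputable def coord {U : X.Opens} {n : ℕ} {e : Fin n → Γ(E, U)} (he : IsBasis e) (k : Fin n) :
    DualSec E U :=
  ⟨fun V => (LinearMap.proj k).comp (coordAt he V.1 V.2), fun V W h x => by
    have h1 : (fun j => rf h (coordAt he V.1 V.2 x j)) = coordAt he W.1 W.2 (rs E h x) :=
      (he W.1 W.2).1 (by rw [← Basis.rs_comb _ V.2 h, comb_coordAt, comb_coordAt])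
    exact congrFun h1 k⟩

lemma coord_app {U : X.Opens} {n : ℕ} {e : Fin n → Γ(E, U)} (he : IsBasis e) (k : Fin n)
    {V : X.Opens} (hV : V ≤ U) (x : Γ(E, V)) : (coord he k).app hV x = coordAt he V hV x k := rfl

lemma coordAt_self {U : X.Opens} {n : ℕ} {e : Fin n → Γ(E, U)} (he : IsBasis e)
    {V : X.Opens} (hV : V ≤ U) (j : Fin n) : coordAt he V hV (rs E hV (e j)) = Pi.single j 1 :=
  (he V hV).1 (by
    rw [comb_coordAt]
    simp only [comb]
    rw [Finset.sum_eq_single j (fun i _ hi => by rw [Pi.single_eq_of_ne hi, zero_smul])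
      (fun h => absurd (Finset.mem_univ j) h), Pi.single_eq_same, one_smul])

/-- The dual of a finite locally free module is finite locally free. -/
theorem isFinLocFree_dual (hE : FlatMod.IsFinLocFree E) : FlatMod.IsFinLocFree (dual E) := by
  classical
  intro x
  obtain ⟨U, n, hxU, ⟨i⟩⟩ := hE x
  obtain ⟨e, he⟩ := Basis.exists_basis_of_iso i
  refine ⟨U, n, hxU, Basis.exists_iso_of_basis (e := fun k => coord he k) fun V hV => ?_⟩
  have happ : ∀ (a : Fin n → Γ(X, V)) {W : X.Opens} (hW : W ≤ V) (y : Γ(E, W)),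
      (show DualSec E V from comb (M := dual E) (fun k => coord he k) hV a).app hW y =
        ∑ k, rf hW (a k) * coordAt he W (hW.trans hV) y k := by
    intro a W hW y
    let ev : DualSec E V →+ Γ(X, W) := AddMonoidHom.mk' (fun ψ => ψ.app hW y)
      fun a b => Dual.add_app E a b hW y
    exact map_sum ev (fun k => a k • dualRes E hV (coord he k)) Finset.univ
  constructor
  · intro a b hab
    funext j
    have h1 := happ a le_rfl (rs E hV (e j))
    have h2 := happ b le_rfl (rs E hV (e j))
    rw [hab, h2] at h1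
    simpa [coordAt_self, Pi.single_apply, Dual.rf_self] using h1.symm
  · intro ψ
    refine ⟨fun k => (show DualSec E V from ψ).app le_rfl (rs E hV (e k)), DualSec.ext fun W hW y => ?_⟩
    rw [happ]
    conv_rhs => rw [← comb_coordAt he (hW.trans hV) y]
    simp only [comb, map_sum, map_smul, smul_eq_mul]
    refine Finset.sum_congr rfl fun k _ => ?_
    rw [mul_comm]
    refine congrArg (_ * ·) ?_
    exact (DualSec.compat (show DualSec E V from ψ) le_rfl hW _).trans (congrArg _ (rs_rs E hV hW (e k)))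

end Groth.Agent.H95.LefFEt.Bidual
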