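import Groth.Agent.H95.LefFEt.Bidual
import Groth.Agent.Lib.ClSub.Sections
import Groth.Prelude.Def_Lef

/-!
Morphisms from a dual module to `O/J` from compatible classes of local sections.
-/

set_option autoImplicit false
universe u

open CategoryTheory AlgebraicGeometry Opposite TopologicalSpace
open Groth.Agent.Lib.TensorMod
open Groth.Agent.Lib.TensorMod.Dual
open Groth.Agent.Lib.Modules.TensorSec

namespace Groth.Agent.H95.LefFEt.FormalHom

variable {X : Scheme.{u}} {E M N : X.Modules}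

theorem exists_affine {V : X.Opens} {x : X} (hx : x ∈ V) :
    ∃ U : X.affineOpens, U.1 ≤ V ∧ x ∈ U.1 := by
  obtain ⟨U, hU, hxU, hle⟩ := exists_isAffineOpen_mem_and_subset hx
  exact ⟨⟨U, hU⟩, hle, hxU⟩

theorem hom_ext_affine {φ ψ : M ⟶ N} (h : ∀ (U : X.affineOpens) (s : Γ(M, U.1)),
    φ.app U.1 s = ψ.app U.1 s) : φ = ψ := by
  refine Scheme.Modules.hom_ext _ _ fun V => ?_
  ext s
  refine section_ext _ _ _ fun x hx => ?_
  obtain ⟨U, hUV, hxU⟩ := exists_affine hx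
  exact ⟨U.1, hUV, hxU, by rw [HomGlue.rs_app, HomGlue.rs_app]; exact h U _⟩

theorem toSub_eq (J : X.IdealSheafData) (U : X.affineOpens) {a b : Γ(X, U.1)} (h : a - b ∈ J.ideal U) :
    (ClSub.toSubscheme J).app U.1 a = (ClSub.toSubscheme J).app U.1 b := by
  have h1 : (J.subschemeι.app U.1).hom (a - b) = 0 := by
    rw [← RingHom.mem_ker, J.ker_subschemeι_app U]; exact h
  rw [map_sub] at h1
  exact sub_eq_zero.mp h1

theorem toSub_smul (J : X.IdealSheafData) (V : X.Opens) (r a : Γ(X, V)) :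
    (ClSub.toSubscheme J).app V (r * a) = r • (ClSub.toSubscheme J).app V a :=
  Scheme.Modules.Hom.app_smul (ClSub.toSubscheme J) r a

theorem exists_hom_of_lifts (J : X.IdealSheafData) (L : ∀ U : X.affineOpens, Set Γ(E, U.1))
    (hne : ∀ U, (L U).Nonempty)
    (hres : ∀ (U V : X.affineOpens) (h : V.1 ≤ U.1) (a : Γ(E, U.1)), a ∈ L U → rs E h a ∈ L V)
    (hdiff : ∀ (U : X.affineOpens) (a b : Γ(E, U.1)), a ∈ L U → b ∈ L U → ∀ ψ : DualSec E U.1,
      ψ.app le_rfl a - ψ.app le_rfl b ∈ J.ideal U) :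
    ∃ y : dual E ⟶ ClSub.quotMod J, ∀ (U : X.affineOpens), ∀ a ∈ L U, ∀ ψ : DualSec E U.1,
      y.app U.1 ψ = (ClSub.toSubscheme J).app U.1 (ψ.app le_rfl a) := by
  let P : ∀ (V : X.Opens), DualSec E V → Γ(ClSub.quotMod J, V) → Prop := fun V ψ s =>
    ∀ (U : X.affineOpens) (h : U.1 ≤ V), ∀ a ∈ L U,
      rs _ h s = (ClSub.toSubscheme J).app U.1 (ψ.app h a)
  have huniq : ∀ V ψ s s', P V ψ s → P V ψ s' → s = s' := by
    intro V ψ s s' hs hs'
    refine section_ext _ _ _ fun x hx => ?_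
    obtain ⟨U, hUV, hxU⟩ := exists_affine hx
    obtain ⟨a, ha⟩ := hne U
    exact ⟨U.1, hUV, hxU, (hs U hUV a ha).trans (hs' U hUV a ha).symm⟩
  have hex : ∀ V ψ, ∃ s, P V ψ s := by
    intro V ψ
    choose a ha using hne
    let ι := {U : X.affineOpens // U.1 ≤ V}
    let t : ∀ i : ι, Γ(ClSub.quotMod J, i.1.1) := fun i =>
      (ClSub.toSubscheme J).app i.1.1 (ψ.app i.2 (a i.1))
    have key : ∀ (i : ι) (W : X.affineOpens) (h : W.1 ≤ i.1.1) (b : Γ(E, W.1)), b ∈ L W →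
        rs _ h (t i) = (ClSub.toSubscheme J).app W.1 (ψ.app (h.trans i.2) b) := by
      intro i W h b hb
      refine (HomGlue.rs_app (ClSub.toSubscheme J) h _).trans ?_
      refine (congrArg ((ClSub.toSubscheme J).app W.1) (ψ.compat i.2 h (a i.1))).trans (toSub_eq J W ?_)
      exact hdiff W _ _ (hres _ _ h _ (ha i.1)) hb (dualRes E (h.trans i.2) ψ)
    have hcompat : ∀ i j : ι, rs _ (inf_le_left : i.1.1 ⊓ j.1.1 ≤ i.1.1) (t i) =
        rs _ inf_le_right (t j) := fun i j => section_ext _ _ _ fun x hx => by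
      obtain ⟨W, hW, hxW⟩ := exists_affine hx
      exact ⟨W.1, hW, hxW, by rw [rs_rs, rs_rs, key i W _ _ (ha W), key j W _ _ (ha W)]⟩
    obtain ⟨s, hs, -⟩ := TopCat.Sheaf.existsUnique_gluing'
      (⟨(ClSub.quotMod J).presheaf, (ClSub.quotMod J).isSheaf⟩ : TopCat.Sheaf Ab X)
      (fun i : ι => i.1.1) V (fun i => homOfLE i.2)
      (fun x hx => by obtain ⟨U, hUV, hxU⟩ := exists_affine hx; exact Opens.mem_iSup.mpr ⟨⟨U, hUV⟩, hxU⟩)
      t hcompat
    refine ⟨s, fun U h b hb => ?_⟩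
    have h1 := hs ⟨U, h⟩
    refine (show rs _ h s = t ⟨U, h⟩ from h1).trans ?_
    exact (rs_self _ le_rfl _).symm.trans (key ⟨U, h⟩ U le_rfl b hb)
  choose s hs using hex
  have hadd : ∀ V ψ ψ', s V (ψ + ψ') = s V ψ + s V ψ' := fun V ψ ψ' =>
    huniq V _ _ _ (hs V _) fun U h a ha => by
      have e : rs _ h (s V ψ + s V ψ') = rs _ h (s V ψ) + rs _ h (s V ψ') := HomGlue.rs_add _ h _ _
      rw [e, hs V ψ U h a ha, hs V ψ' U h a ha, Dual.add_app]
      exact (map_add ((ClSub.toSubscheme J).app U.1).hom _ _).symm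
  have hsmul : ∀ V (r : Γ(X, V)) ψ, s V (r • ψ) = r • s V ψ := fun V r ψ =>
    huniq V _ _ _ (hs V _) fun U h a ha => by
      rw [rs_smul, hs V ψ U h a ha, Dual.smul_app, toSub_smul]
  have hnat : ∀ V W (h : W ≤ V) (ψ : DualSec E V), s W (dualRes E h ψ) = rs _ h (s V ψ) :=
    fun V W h ψ => huniq W _ _ _ (hs W _) fun U hU a ha => by
      rw [rs_rs, hs V ψ U (hU.trans h) a ha, dualRes_app]
  refine ⟨⟨PresheafOfModules.homMk
    { app := fun V => AddCommGrpCat.ofHom (AddMonoidHom.mk' (fun ψ : DualSec E V.unop => s V.unop ψ)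
        (hadd V.unop))
      naturality := fun V W i => by ext ψ; exact hnat V.unop W.unop i.unop.le ψ }
    (fun V r ψ => hsmul V.unop r ψ)⟩, fun U a ha ψ => ?_⟩
  exact (rs_self _ le_rfl _).symm.trans (hs U.1 ψ U le_rfl a ha)

/-- The formula for the transition maps. -/
theorem toSubscheme_quotMap {I J : X.IdealSheafData} (h : I ≤ J) :
    ClSub.toSubscheme I ≫ Lef.quotMap h = ClSub.toSubscheme J := by
  refine Scheme.Modules.hom_ext _ _ fun V => ?_
  ext s
  show J.subscheme.presheaf.map (eqToHom (show J.subschemeι ⁻¹ᵁ V = Scheme.IdealSheafData.inclusion h ⁻¹ᵁ I.subschemeι ⁻¹ᵁ V by rw [← Scheme.Hom.comp_preimage, Scheme.IdealSheafData.inclusion_subschemeι])).op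
    ((Scheme.IdealSheafData.inclusion h).app (I.subschemeι ⁻¹ᵁ V) (I.subschemeι.app V s)) =
      J.subschemeι.app V s
  have h2 : ∀ (f : J.subscheme ⟶ X) (hf : f = J.subschemeι)
      (e : J.subschemeι ⁻¹ᵁ V = f ⁻¹ᵁ V),
      J.subscheme.presheaf.map (eqToHom e).op (f.app V s) = J.subschemeι.app V s := by
    rintro f rfl e
    simp
  exact h2 (Scheme.IdealSheafData.inclusion h ≫ I.subschemeι)
    (Scheme.IdealSheafData.inclusion_subschemeι h) _

end Groth.Agent.H95.LefFEt.FormalHom
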