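import Groth.Prelude.Def_PicLoc
import Groth.Prelude.Def_ClSub2

/-!
Adjuncts of morphisms to the structure module along a composite.
-/

set_option autoImplicit false
universe u

open CategoryTheory CategoryTheory.Limits AlgebraicGeometry

namespace Groth.Agent.H95.LefFEt.Adjunct

variable {X Y S : Scheme.{u}}

noncomputable abbrev hE (f : X ⟶ Y) (D : Y.Modules) (M : X.Modules) :=
  (Scheme.Modules.pullbackPushforwardAdjunction f).homEquiv D M

/-- `f^* O ⟶ O`. -/
noncomputable abbrev eps (f : X ⟶ Y) :
    (Scheme.Modules.pullback f).obj (Coh.structureModule Y) ⟶ Coh.structureModule X :=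
  (PicLoc.pullbackStructureIso f).hom

theorem homEquiv_eps (f : X ⟶ Y) : hE f _ _ (eps f) = ClSub.unitToPush f :=
  Equiv.apply_symm_apply _ _

theorem homEquiv_comp (f : X ⟶ Y) (g : Y ⟶ S) {D : S.Modules} {M : X.Modules}
    (u : (Scheme.Modules.pullback (f ≫ g)).obj D ⟶ M) :
    hE g _ _ (hE f _ _ ((Scheme.Modules.pullbackComp f g).hom.app D ≫ u)) ≫
      (Scheme.Modules.pushforwardComp f g).hom.app M = hE (f ≫ g) _ _ u := by
  let a1 := (Scheme.Modules.pullbackPushforwardAdjunction g).comp
    (Scheme.Modules.pullbackPushforwardAdjunction f)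
  let a2 := Scheme.Modules.pullbackPushforwardAdjunction (f ≫ g)
  have h := CategoryTheory.unit_conjugateEquiv a1 a2 (Scheme.Modules.pullbackComp f g).inv D
  rw [Scheme.Modules.conjugateEquiv_pullbackComp_inv] at h
  have h1 : hE g _ _ (hE f _ _ ((Scheme.Modules.pullbackComp f g).hom.app D ≫ u)) =
      a1.unit.app D ≫ (Scheme.Modules.pushforward f ⋙ Scheme.Modules.pushforward g).map
        ((Scheme.Modules.pullbackComp f g).hom.app D ≫ u) := by
    simp [a1, hE, Adjunction.homEquiv_unit, Adjunction.comp_unit_app, Functor.map_comp]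
  rw [h1, Category.assoc, (Scheme.Modules.pushforwardComp f g).hom.naturality, ← Category.assoc, h,
    Category.assoc, ← Functor.map_comp, Iso.inv_hom_id_app_assoc, ← Adjunction.homEquiv_unit]

theorem unitToPush_comp (f : X ⟶ Y) (g : Y ⟶ S) :
    ClSub.unitToPush g ≫ (Scheme.Modules.pushforward g).map (ClSub.unitToPush f) ≫
      (Scheme.Modules.pushforwardComp f g).hom.app _ = ClSub.unitToPush (f ≫ g) := by
  refine Scheme.Modules.hom_ext _ _ fun U => ?_
  ext s
  rfl

theorem comp_eps (f : X ⟶ Y) (g : Y ⟶ S) :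
    hE f _ _ ((Scheme.Modules.pullbackComp f g).hom.app (Coh.structureModule S) ≫ eps (f ≫ g)) =
      eps g ≫ ClSub.unitToPush f := by
  apply (hE g _ _).injective
  rw [← cancel_mono ((Scheme.Modules.pushforwardComp f g).hom.app (Coh.structureModule X)),
    homEquiv_comp, homEquiv_eps, hE, Adjunction.homEquiv_naturality_right, homEquiv_eps, Category.assoc,
    unitToPush_comp]

theorem pushforwardCongr_rfl (f : X ⟶ Y) (M : X.Modules) :
    (Scheme.Modules.pushforwardCongr (rfl : f = f)).hom.app M = 𝟙 _ := by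
  refine Scheme.Modules.hom_ext _ _ fun U => ?_
  simp

/-- The adjunct of a pulled-back morphism. -/
theorem homEquiv_pullback_map {f : X ⟶ Y} {g : Y ⟶ S} {h : X ⟶ S} (e : f ≫ g = h) {D : S.Modules}
    (z : (Scheme.Modules.pullback g).obj D ⟶ (Scheme.Modules.pullback g).obj (Coh.structureModule S))
    (z' : (Scheme.Modules.pullback h).obj D ⟶ (Scheme.Modules.pullback h).obj (Coh.structureModule S))
    (hz : (Scheme.Modules.pullback f).map z ≫
        (Scheme.Modules.pullbackComp f g ≪≫ Scheme.Modules.pullbackCongr e).hom.app _ =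
      (Scheme.Modules.pullbackComp f g ≪≫ Scheme.Modules.pullbackCongr e).hom.app D ≫ z') :
    hE h _ _ (z' ≫ eps h) = hE g _ _ (z ≫ eps g) ≫
      (Scheme.Modules.pushforward g).map (ClSub.unitToPush f) ≫
        (Scheme.Modules.pushforwardComp f g).hom.app _ ≫
          (Scheme.Modules.pushforwardCongr e).hom.app _ := by
  subst e
  simp only [Scheme.Modules.pullbackCongr, eqToIso_refl, Iso.trans_refl] at hz
  rw [pushforwardCongr_rfl, Category.comp_id, ← homEquiv_comp f g, ← Category.assoc, ← hz, Category.assoc,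
    hE, Adjunction.homEquiv_naturality_left, comp_eps, ← Category.assoc z, Adjunction.homEquiv_naturality_right,
    Category.assoc]

end Groth.Agent.H95.LefFEt.Adjunct
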