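import Mathlib.RingTheory.Spectrum.Prime.Topology

/-!
Idempotents modulo an ideal and clopen subsets of its zero locus.
-/

universe u


namespace Groth.Agent.H95.LefFEt.Idem

variable {A : Type u} [CommRing A] (K : Ideal A)

/-- `e` is idempotent mod `K`, cutting out `C` on `V(K)`. -/
def IsIdemLift (C : Set (PrimeSpectrum A)) (e : A) : Prop :=
  e * e - e ∈ K ∧ ∀ p : PrimeSpectrum A, K ≤ p.asIdeal → (e ∉ p.asIdeal ↔ p ∈ C)

theorem exists_isIdemLift {C : Set (PrimeSpectrum A)}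
    (h1 : IsClosed (C ∩ PrimeSpectrum.zeroLocus (K : Set A)))
    (h2 : IsClosed (PrimeSpectrum.zeroLocus (K : Set A) \ C)) : ∃ e, IsIdemLift K C e := by
  let g := PrimeSpectrum.comap (Ideal.Quotient.mk K)
  have hg : Continuous g := PrimeSpectrum.continuous_comap _
  have hrange : ∀ q, g q ∈ PrimeSpectrum.zeroLocus (K : Set A) := fun q a ha => by
    show Ideal.Quotient.mk K a ∈ q.asIdeal
    rw [Ideal.Quotient.eq_zero_iff_mem.mpr ha]
    exact q.asIdeal.zero_mem
  have hcl : IsClopen (g ⁻¹' C) := by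
    refine ⟨?_, isClosed_compl_iff.mp ?_⟩
    · have : g ⁻¹' C = g ⁻¹' (C ∩ PrimeSpectrum.zeroLocus (K : Set A)) := by
        ext q; exact ⟨fun h => ⟨h, hrange q⟩, fun h => h.1⟩
      rw [this]; exact h1.preimage hg
    · have : (g ⁻¹' C)ᶜ = g ⁻¹' (PrimeSpectrum.zeroLocus (K : Set A) \ C) := by
        ext q; exact ⟨fun h => ⟨hrange q, h⟩, fun h => h.2⟩
      rw [this]; exact h2.preimage hg
  obtain ⟨ebar, he, hC⟩ := PrimeSpectrum.exists_idempotent_basicOpen_eq_of_isClopen hcl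
  obtain ⟨e, rfl⟩ := Ideal.Quotient.mk_surjective ebar
  refine ⟨e, Ideal.Quotient.eq.mp ?_, fun p hp => ?_⟩
  · rw [map_mul]; exact he
  · obtain ⟨q, rfl⟩ : ∃ q, g q = p := by
      have : p ∈ Set.range g := by
        rw [range_comap_of_surjective _ _ Ideal.Quotient.mk_surjective, Ideal.mk_ker]
        exact hp
      exact this
    show Ideal.Quotient.mk K e ∉ q.asIdeal ↔ q ∈ g ⁻¹' C
    rw [hC]; rfl

theorem sub_mem {C : Set (PrimeSpectrum A)} {e e' : A} (h : IsIdemLift K C e)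
    (h' : IsIdemLift K C e') : e - e' ∈ K := by
  refine Ideal.Quotient.eq.mp ?_
  have hid : ∀ {a : A}, a * a - a ∈ K → IsIdempotentElem (Ideal.Quotient.mk K a) := fun ha => by
    have := Ideal.Quotient.eq.mpr ha
    rwa [map_mul] at this
  refine PrimeSpectrum.basicOpen_injOn_isIdempotentElem (hid h.1) (hid h'.1) ?_
  ext q
  have hq : K ≤ (q.asIdeal.comap (Ideal.Quotient.mk K)) := fun a ha => by
    show Ideal.Quotient.mk K a ∈ q.asIdeal
    rw [Ideal.Quotient.eq_zero_iff_mem.mpr ha]; exact q.asIdeal.zero_mem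
  let p := PrimeSpectrum.comap (Ideal.Quotient.mk K) q
  exact (h.2 p hq).trans (h'.2 p hq).symm

theorem zero {C : Set (PrimeSpectrum A)}
    (h : ∀ p : PrimeSpectrum A, K ≤ p.asIdeal → p ∉ C) : IsIdemLift K C 0 :=
  ⟨by simp, fun p hp => iff_of_false (fun h0 => h0 p.asIdeal.zero_mem) (h p hp)⟩

end Groth.Agent.H95.LefFEt.Idem
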