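import Groth.Agent.H95.LefFEt.FormalHom
import Groth.Agent.H95.LefFEt.Idem
import Groth.Agent.Lib.Ideal.Comap

/-!
Clopen subsets of a finite flat cover and formal functions.
-/

set_option autoImplicit false
universe u

open CategoryTheory AlgebraicGeometry Opposite TopologicalSpace
open Groth.Agent.Lib.TensorMod
open Groth.Agent.Lib.TensorMod.Dual
open Groth.Agent.Lib.Modules.DualBasis
open Groth.Agent.Lib.Modules.TensorSec

namespace Groth.Agent.H95.LefFEt.Clopen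

variable {X W : Scheme.{u}} (π : W ⟶ X) (𝓘 : X.IdealSheafData)

/-- `π_* O_W`. -/
noncomputable abbrev push : X.Modules := (Scheme.Modules.pushforward π).obj (Coh.structureModule W)

/-- The preimage of the support. -/
def Z : Set W := π ⁻¹' (𝓘.support : Set X)

/-- The ideal of the `n`-th neighbourhood on `π⁻¹U`. -/
noncomputable def K (n : ℕ) (U : X.affineOpens) : Ideal Γ(W, π ⁻¹ᵁ U.1) :=
  ((𝓘 ^ (n + 1)).ideal U).map (π.app U.1).hom

lemma K_succ_le (n : ℕ) (U : X.affineOpens) : K π 𝓘 (n + 1) U ≤ K π 𝓘 n U :=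
  Ideal.map_mono (Lef.pow_succ_le 𝓘 n U)

lemma K_res (n : ℕ) {U V : X.affineOpens} (h : V.1 ≤ U.1) {a : Γ(W, π ⁻¹ᵁ U.1)}
    (ha : a ∈ K π 𝓘 n U) : W.presheaf.map (homOfLE (π.preimage_mono h)).op a ∈ K π 𝓘 n V := by
  have h1 := Ideal.mem_map_of_mem (W.presheaf.map (homOfLE (π.preimage_mono h)).op).hom ha
  rw [K, Ideal.map_map, ← CommRingCat.hom_comp,
    show π.app U.1 ≫ W.presheaf.map (homOfLE (π.preimage_mono h)).op =
      X.presheaf.map (homOfLE h).op ≫ π.app V.1 from (π.naturality (homOfLE h).op).symm,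
    CommRingCat.hom_comp, ← Ideal.map_map] at h1
  have h2 : Ideal.map (X.presheaf.map (homOfLE h).op).hom ((𝓘 ^ (n + 1)).ideal U) =
      (𝓘 ^ (n + 1)).ideal V := (𝓘 ^ (n + 1)).map_ideal (U := V) (V := U) h
  exact le_of_eq (congrArg (Ideal.map (π.app V.1).hom) h2) h1

/-- A form takes `K` to the ideal. -/
lemma form_mem (n : ℕ) (U : X.affineOpens) (ψ : DualSec (push π) U.1) {a : Γ(W, π ⁻¹ᵁ U.1)}
    (ha : a ∈ K π 𝓘 n U) : ψ.app le_rfl a ∈ (𝓘 ^ (n + 1)).ideal U := by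
  let f : Γ(W, π ⁻¹ᵁ U.1) →+ Γ(X, U.1) :=
    AddMonoidHom.mk' (fun c => ψ.app le_rfl c) fun c d => map_add (ψ.app le_rfl) c d
  have hf : ∀ j c, f ((π.app U.1).hom j * c) = j * f c := fun j c =>
    map_smul (ψ.app le_rfl) j (show Γ(push π, U.1) from c)
  show f a ∈ _
  suffices ∀ c, f (c * a) ∈ (𝓘 ^ (n + 1)).ideal U by simpa using this 1
  induction ha using Submodule.span_induction with
  | mem x hx =>
    obtain ⟨j, hj, rfl⟩ := hx
    intro c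
    rw [mul_comm c, hf]
    exact Ideal.mul_mem_right _ _ hj
  | zero => intro c; simp
  | add x y _ _ hx hy => intro c; rw [mul_add, map_add]; exact add_mem (hx c) (hy c)
  | smul d x _ hx => intro c; rw [smul_eq_mul, ← mul_assoc]; exact hx (c * d)

/-- Idempotents mod `K` cutting out `C`. -/
def L (C : Set W) (n : ℕ) (U : X.affineOpens) : Set Γ(W, π ⁻¹ᵁ U.1) :=
  {a | a * a - a ∈ K π 𝓘 n U ∧
    ∀ w ∈ π ⁻¹ᵁ U.1, w ∈ Z π 𝓘 → (w ∈ W.basicOpen a ↔ w ∈ C)}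

lemma L_res (C : Set W) (n : ℕ) {U V : X.affineOpens} (h : V.1 ≤ U.1) {a : Γ(W, π ⁻¹ᵁ U.1)}
    (ha : a ∈ L π 𝓘 C n U) :
    W.presheaf.map (homOfLE (π.preimage_mono h)).op a ∈ L π 𝓘 C n V := by
  refine ⟨?_, fun w hw hwZ => ?_⟩
  · have := K_res π 𝓘 n h ha.1
    rwa [map_sub, map_mul] at this
  · rw [Scheme.basicOpen_res, ← ha.2 w (π.preimage_mono h hw) hwZ]
    exact ⟨fun h' => h'.2, fun h' => ⟨hw, h'⟩⟩

lemma L_succ_subset (C : Set W) (n : ℕ) (U : X.affineOpens) :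
    L π 𝓘 C (n + 1) U ⊆ L π 𝓘 C n U := fun _ ha => ⟨K_succ_le π 𝓘 n U ha.1, ha.2⟩

variable [IsAffineHom π]

lemma zeroLocus_K (n : ℕ) (U : X.affineOpens) (p : PrimeSpectrum Γ(W, π ⁻¹ᵁ U.1)) :
    K π 𝓘 n U ≤ p.asIdeal ↔ (U.2.preimage π).fromSpec p ∈ Z π 𝓘 := by
  have haff := U.2.preimage π
  let T : W.affineOpens := ⟨π ⁻¹ᵁ U.1, haff⟩
  have hK : ((𝓘 ^ (n + 1)).comap π).ideal T = K π 𝓘 n U := by
    rw [Lib.Ideal.Comap.ideal_comap π _ U T le_rfl, ← Scheme.Hom.app_eq_appLE]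
    rfl
  have hmem : haff.fromSpec p ∈ π ⁻¹ᵁ U.1 := by
    have h : haff.fromSpec p ∈ Set.range haff.fromSpec := ⟨p, rfl⟩
    rwa [haff.range_fromSpec] at h
  have hZ : (U.2.preimage π).fromSpec p ∈ Z π 𝓘 ↔
      haff.fromSpec p ∈ ((𝓘 ^ (n + 1)).comap π).supportSet := by
    show π _ ∈ 𝓘.support ↔ haff.fromSpec p ∈ ((𝓘 ^ (n + 1)).comap π).support
    rw [Scheme.IdealSheafData.support_comap, Scheme.IdealSheafData.support_pow_succ]
    rfl
  rw [hZ, Scheme.IdealSheafData.mem_supportSet_iff_of_mem (U := T) hmem, hK]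
  have h2 : p ∈ haff.fromSpec ⁻¹' (W.zeroLocus (U := π ⁻¹ᵁ U.1) (K π 𝓘 n U : Set _)) ↔
      p ∈ PrimeSpectrum.zeroLocus (K π 𝓘 n U : Set Γ(W, π ⁻¹ᵁ U.1)) :=
    Set.ext_iff.mp (haff.fromSpec_preimage_zeroLocus _) p
  exact h2.symm

lemma mem_basicOpen_iff (U : X.affineOpens) (a : Γ(W, π ⁻¹ᵁ U.1))
    (p : PrimeSpectrum Γ(W, π ⁻¹ᵁ U.1)) :
    (U.2.preimage π).fromSpec p ∈ W.basicOpen a ↔ a ∉ p.asIdeal := by
  show p ∈ (U.2.preimage π).fromSpec ⁻¹ᵁ W.basicOpen a ↔ _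
  rw [(U.2.preimage π).fromSpec_preimage_basicOpen]
  rfl

lemma L_iff (C : Set W) (n : ℕ) (U : X.affineOpens) (a : Γ(W, π ⁻¹ᵁ U.1)) :
    a ∈ L π 𝓘 C n U ↔ Idem.IsIdemLift (K π 𝓘 n U) ((U.2.preimage π).fromSpec ⁻¹' C) a := by
  refine and_congr Iff.rfl ⟨fun h p hp => ?_, fun h w hw hwZ => ?_⟩
  · rw [← mem_basicOpen_iff]
    refine h _ ?_ ((zeroLocus_K π 𝓘 n U p).mp hp)
    have h : (U.2.preimage π).fromSpec p ∈ Set.range (U.2.preimage π).fromSpec := ⟨p, rfl⟩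
    rwa [(U.2.preimage π).range_fromSpec] at h
  · obtain ⟨p, rfl⟩ : w ∈ Set.range (U.2.preimage π).fromSpec := by
      rw [(U.2.preimage π).range_fromSpec]; exact hw
    exact (mem_basicOpen_iff π U a p).trans (h p ((zeroLocus_K π 𝓘 n U p).mpr hwZ))

lemma L_nonempty {C : Set W} (hC1 : IsClosed (C ∩ Z π 𝓘)) (hC2 : IsClosed (Z π 𝓘 \ C)) (n : ℕ)
    (U : X.affineOpens) : (L π 𝓘 C n U).Nonempty := by
  have hz : PrimeSpectrum.zeroLocus (K π 𝓘 n U : Set Γ(W, π ⁻¹ᵁ U.1)) =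
      (U.2.preimage π).fromSpec ⁻¹' Z π 𝓘 := Set.ext fun p => zeroLocus_K π 𝓘 n U p
  obtain ⟨e, he⟩ := Idem.exists_isIdemLift (K π 𝓘 n U) (C := (U.2.preimage π).fromSpec ⁻¹' C)
    (by rw [hz]; exact hC1.preimage (U.2.preimage π).fromSpec.continuous)
    (by rw [hz]; exact hC2.preimage (U.2.preimage π).fromSpec.continuous)
  exact ⟨e, (L_iff π 𝓘 C n U e).mpr he⟩

lemma L_sub_mem {C : Set W} {n : ℕ} {U : X.affineOpens} {a b : Γ(W, π ⁻¹ᵁ U.1)}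
    (ha : a ∈ L π 𝓘 C n U) (hb : b ∈ L π 𝓘 C n U) : a - b ∈ K π 𝓘 n U :=
  Idem.sub_mem _ ((L_iff π 𝓘 C n U a).mp ha) ((L_iff π 𝓘 C n U b).mp hb)

omit [IsAffineHom π] in
/-- A function all of whose forms lie in the ideal lies in `K`, over an open with a dual basis. -/
lemma mem_K_of_forms (n : ℕ) (U : X.affineOpens) {m : ℕ} (B : DBasis (push π) U.1 m)
    {a : Γ(W, π ⁻¹ᵁ U.1)}
    (h : ∀ ψ : DualSec (push π) U.1, ψ.app le_rfl a ∈ (𝓘 ^ (n + 1)).ideal U) :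
    a ∈ K π 𝓘 n U := by
  have h1 := B.sum_eq U.1 le_rfl (show Γ(push π, U.1) from a)
  rw [← show (∑ i, (B.f i).app le_rfl (show Γ(push π, U.1) from a) • rs (push π) le_rfl (B.e i)) = a
    from h1]
  refine sum_mem fun i _ => ?_
  exact Ideal.mul_mem_right _ _ (Ideal.mem_map_of_mem _ (h (B.f i)))

omit [IsAffineHom π] in
/-- A global function in every `K` is zero. -/
theorem eq_zero_of_mem_K (hE : HasDBases (push π))
    (hinj : ∀ φ ψ : dual (push π) ⟶ Coh.structureModule X,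
      (∀ n : ℕ, φ ≫ ClSub.toSubscheme (𝓘 ^ (n + 1)) = ψ ≫ ClSub.toSubscheme (𝓘 ^ (n + 1))) → φ = ψ)
    (x : Γ(push π, ⊤))
    (hx : ∀ (n : ℕ) (U : X.affineOpens) (m : ℕ), DBasis (push π) U.1 m →
      (show Γ(W, π ⁻¹ᵁ U.1) from rs (push π) le_top x) ∈ K π 𝓘 n U) : x = 0 := by
  refine Bidual.evalHom_injective hE (hinj _ _ fun n => ?_)
  refine FormalHom.hom_ext_affine fun U ψ => section_ext _ _ _ fun y hy => ?_
  obtain ⟨V, m, hyV, hVU, ⟨B⟩⟩ := exists_dBasis_le hE hy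
  obtain ⟨T, hTV, hyT⟩ := FormalHom.exists_affine hyV
  refine ⟨T.1, hTV.trans hVU, hyT, ?_⟩
  rw [HomGlue.rs_app, HomGlue.rs_app]
  refine FormalHom.toSub_eq _ T ?_
  have h1 := form_mem π 𝓘 n T (dualRes _ (hTV.trans hVU) ψ) (hx n T m (B.res hTV))
  have h0 : (dualRes (push π) (hTV.trans hVU) ψ).app le_rfl (rs (push π) le_top (0 : Γ(push π, ⊤))) = 0 := by
    rw [show rs (push π) (le_top : T.1 ≤ ⊤) (0 : Γ(push π, ⊤)) = 0 from map_zero _, map_zero]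
  show (dualRes (push π) (hTV.trans hVU) ψ).app le_rfl (rs (push π) le_top x) -
    (dualRes (push π) (hTV.trans hVU) ψ).app le_rfl (rs (push π) le_top (0 : Γ(push π, ⊤))) ∈ _
  rw [h0, sub_zero]
  exact h1

/-- An idempotent function realising a prescribed clopen trace. -/
theorem exists_idem (hE : HasDBases (push π)) (h : Lef.HomToFormalBijective 𝓘 (dual (push π)))
    {C : Set W} (hC1 : IsClosed (C ∩ Z π 𝓘)) (hC2 : IsClosed (Z π 𝓘 \ C)) :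
    ∃ x : Γ(W, π ⁻¹ᵁ ⊤), x * x = x ∧ ∀ w ∈ Z π 𝓘, (w ∈ W.basicOpen x ↔ w ∈ C) := by
  have hy := fun n => FormalHom.exists_hom_of_lifts (E := push π) (𝓘 ^ (n + 1)) (fun U => L π 𝓘 C n U)
    (fun U => L_nonempty π 𝓘 hC1 hC2 n U) (fun U V hVU a ha => L_res π 𝓘 C n hVU ha)
    (fun U a b ha hb ψ => by
      rw [← map_sub]
      exact form_mem π 𝓘 n U ψ (L_sub_mem π 𝓘 ha hb))
  choose y hy using hy
  have hform : Lef.IsFormalHom 𝓘 (dual (push π)) y := fun n => FormalHom.hom_ext_affine fun U ψ => by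
    obtain ⟨a, ha⟩ := L_nonempty π 𝓘 hC1 hC2 (n + 1) U
    rw [hy n U a (L_succ_subset π 𝓘 C n U ha) ψ, ← FormalHom.toSubscheme_quotMap (Lef.pow_succ_le 𝓘 n)]
    exact congrArg ((Lef.quotMap (Lef.pow_succ_le 𝓘 n)).app U.1) (hy (n + 1) U a ha ψ)
  obtain ⟨φ, hφ⟩ := h.2 y hform
  obtain ⟨x, rfl⟩ := Bidual.evalHom_surjective hE φ
  have key : ∀ (n : ℕ) (U : X.affineOpens) (m : ℕ) (_ : DBasis (push π) U.1 m), ∀ a ∈ L π 𝓘 C n U,
      (show Γ(W, π ⁻¹ᵁ U.1) from rs (push π) le_top x) - a ∈ K π 𝓘 n U := by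
    intro n U m B a ha
    refine mem_K_of_forms π 𝓘 n U B fun ψ => ?_
    have h1 := congrArg (fun f : dual (push π) ⟶ ClSub.quotMod (𝓘 ^ (n + 1)) => f.app U.1 ψ) (hφ n)
    have h2 : (ClSub.toSubscheme (𝓘 ^ (n + 1))).app U.1 (ψ.app le_rfl (rs (push π) le_top x)) =
        (ClSub.toSubscheme (𝓘 ^ (n + 1))).app U.1 (ψ.app le_rfl a) := h1.trans (hy n U a ha ψ)
    rw [Lib.ClSub.Sections.toSubscheme_app, Lib.ClSub.Sections.toSubscheme_app] at h2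
    have h3 : ((𝓘 ^ (n + 1)).subschemeι.app U.1).hom
        (ψ.app le_rfl (rs (push π) le_top x) - ψ.app le_rfl a) = 0 := by
      rw [map_sub]; exact sub_eq_zero.mpr h2
    rw [← RingHom.mem_ker, (𝓘 ^ (n + 1)).ker_subschemeι_app U] at h3
    exact (map_sub (ψ.app le_rfl) _ _).symm ▸ h3
  let x' : Γ(W, π ⁻¹ᵁ ⊤) := x
  refine ⟨x', ?_, fun w hw => ?_⟩
  · refine sub_eq_zero.mp (eq_zero_of_mem_K π 𝓘 hE h.1 (show Γ(push π, ⊤) from x' * x' - x') fun n U m B => ?_)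
    obtain ⟨a, ha⟩ := L_nonempty π 𝓘 hC1 hC2 n U
    have h1 := key n U m B a ha
    show (W.presheaf.map (homOfLE (π.preimage_mono le_top)).op).hom (x' * x' - x') ∈ _
    rw [map_sub, map_mul]
    rw [← Ideal.Quotient.eq] at h1
    have h2 := ha.1
    rw [← Ideal.Quotient.eq, map_mul, ← h1, ← map_mul, Ideal.Quotient.eq] at h2
    exact h2
  · obtain ⟨V, m, hwV, -, ⟨B⟩⟩ := exists_dBasis_le hE (show π w ∈ (⊤ : X.Opens) from trivial)
    obtain ⟨U, hUV, hwU⟩ := FormalHom.exists_affine hwV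
    obtain ⟨a, ha⟩ := L_nonempty π 𝓘 hC1 hC2 0 U
    have h1 := key 0 U m (B.res hUV) a ha
    rw [← ha.2 w hwU hw]
    obtain ⟨p, rfl⟩ : w ∈ Set.range (U.2.preimage π).fromSpec := by
      rw [(U.2.preimage π).range_fromSpec]; exact hwU
    have h3 : (U.2.preimage π).fromSpec p ∈ W.basicOpen x' ↔ (U.2.preimage π).fromSpec p ∈
        W.basicOpen (show Γ(W, π ⁻¹ᵁ U.1) from rs (push π) le_top x) := by
      show _ ↔ _ ∈ W.basicOpen (W.presheaf.map (homOfLE (π.preimage_mono le_top)).op x')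
      rw [Scheme.basicOpen_res]
      exact ⟨fun h' => ⟨hwU, h'⟩, fun h' => h'.2⟩
    refine h3.trans (Iff.trans (mem_basicOpen_iff π U _ p) (Iff.trans ?_ (mem_basicOpen_iff π U a p).symm))
    have h4 := (zeroLocus_K π 𝓘 0 U p).mpr hw h1
    have h6 : ∀ z t : Γ(W, π ⁻¹ᵁ U.1), z - t ∈ p.asIdeal → (z ∈ p.asIdeal ↔ t ∈ p.asIdeal) :=
      fun z t h => ⟨fun h5 => by simpa using p.asIdeal.sub_mem h5 h,
        fun h5 => by simpa using p.asIdeal.add_mem h h5⟩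
    exact not_congr (h6 _ _ h4)

end Groth.Agent.H95.LefFEt.Clopen
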