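import Groth.Agent.H95.LefFEt.Adjunct
import Groth.Agent.H95.LefFEt.Bidual
import Groth.Agent.Lib.TensorMod.LocFree
import Groth.Prelude.Def_FSch3
import Groth.Prelude.Def_Lef

/-!
Full faithfulness of completion gives formal bijectivity.
-/

set_option autoImplicit false
universe u

open CategoryTheory CategoryTheory.Limits AlgebraicGeometry

namespace Groth.Agent.H95.LefFEt.Completion

open Adjunct

variable {X : Scheme.{u}} (𝓘 : X.IdealSheafData)

theorem adjunct_map {D : X.Modules} (φ : D ⟶ Coh.structureModule X) (I : X.IdealSheafData) :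
    hE I.subschemeι _ _ ((Scheme.Modules.pullback I.subschemeι).map φ ≫ eps I.subschemeι) =
      φ ≫ ClSub.toSubscheme I := by
  rw [hE, Adjunction.homEquiv_naturality_left, homEquiv_eps]

theorem exists_fac {C C' : Type*} [Category C] [Category C'] {F G : C ⥤ C'} (T : F ≅ G) {D : C} {M : C'}
    (m : F.obj D ⟶ M) : ∃ z' : G.obj D ⟶ M, m = T.hom.app D ≫ z' :=
  ⟨T.inv.app D ≫ m, (Iso.hom_inv_id_app_assoc T D m).symm⟩

theorem comm_of_adjuncts {Z₀ Z₁ : Scheme.{u}} {D : X.Modules} (t : Z₀ ⟶ Z₁) (g₁ : Z₁ ⟶ X)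
    (g₀ : Z₀ ⟶ X) (e : t ≫ g₁ = g₀)
    (z₁ : (Scheme.Modules.pullback g₁).obj D ⟶ (Scheme.Modules.pullback g₁).obj (Coh.structureModule X))
    (z₀ : (Scheme.Modules.pullback g₀).obj D ⟶ (Scheme.Modules.pullback g₀).obj (Coh.structureModule X))
    (h : hE g₁ _ _ (z₁ ≫ eps g₁) ≫ (Scheme.Modules.pushforward g₁).map (ClSub.unitToPush t) ≫
        (Scheme.Modules.pushforwardComp t g₁).hom.app _ ≫
          (Scheme.Modules.pushforwardCongr e).hom.app _ = hE g₀ _ _ (z₀ ≫ eps g₀)) :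
    (Scheme.Modules.pullback t).map z₁ ≫
        (Scheme.Modules.pullbackComp t g₁ ≪≫ Scheme.Modules.pullbackCongr e).hom.app _ =
      (Scheme.Modules.pullbackComp t g₁ ≪≫ Scheme.Modules.pullbackCongr e).hom.app D ≫ z₀ := by
  obtain ⟨z', hz'⟩ := exists_fac (Scheme.Modules.pullbackComp t g₁ ≪≫ Scheme.Modules.pullbackCongr e)
    (D := D) ((Scheme.Modules.pullback t).map z₁ ≫
      (Scheme.Modules.pullbackComp t g₁ ≪≫ Scheme.Modules.pullbackCongr e).hom.app (Coh.structureModule X))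
  have h1 := homEquiv_pullback_map e z₁ z' hz'
  rw [h] at h1
  rw [hz', (cancel_mono (eps g₀)).mp ((hE g₀ _ _).injective h1)]

theorem homToFormalBijective
    (h : ∀ F G : X.Modules, FlatMod.IsFinLocFree F → FlatMod.IsFinLocFree G →
      Function.Bijective (fun φ : F ⟶ G => FSch.complModMap 𝓘 φ))
    (hO : FlatMod.IsFinLocFree (Coh.structureModule X)) {D : X.Modules} (hD : FlatMod.IsFinLocFree D) :
    Lef.HomToFormalBijective 𝓘 D := by
  refine ⟨fun φ ψ hφψ => (h D _ hD hO).1 ?_, fun y hy => ?_⟩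
  · refine FSch.ModSys.Hom.ext (funext fun n => ?_)
    show (Scheme.Modules.pullback (𝓘 ^ (n + 1)).subschemeι).map φ =
      (Scheme.Modules.pullback (𝓘 ^ (n + 1)).subschemeι).map ψ
    rw [← cancel_mono (PicLoc.pullbackStructureIso (𝓘 ^ (n + 1)).subschemeι).hom]
    apply (hE (𝓘 ^ (n + 1)).subschemeι _ _).injective
    exact (adjunct_map φ _).trans ((hφψ n).trans (adjunct_map ψ _).symm)
  · obtain ⟨z, hz⟩ : ∃ z : ∀ n, (Scheme.Modules.pullback (FSch.completionToX X 𝓘 n)).obj D ⟶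
        (Scheme.Modules.pullback (FSch.completionToX X 𝓘 n)).obj (Coh.structureModule X),
        ∀ n, hE (FSch.completionToX X 𝓘 n) _ _ (z n ≫ eps (FSch.completionToX X 𝓘 n)) = y n :=
      ⟨fun n => ((hE (FSch.completionToX X 𝓘 n) _ _).symm (y n)) ≫
        (PicLoc.pullbackStructureIso (FSch.completionToX X 𝓘 n)).inv, fun n =>
        (congrArg (hE (FSch.completionToX X 𝓘 n) _ _)
          ((Category.assoc _ _ _).trans ((congrArg (_ ≫ ·)
            (PicLoc.pullbackStructureIso (FSch.completionToX X 𝓘 n)).inv_hom_id).trans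
            (Category.comp_id _)))).trans (Equiv.apply_symm_apply _ _)⟩
    obtain ⟨w, hw⟩ : ∃ w : FSch.complMod 𝓘 D ⟶ FSch.complMod 𝓘 (Coh.structureModule X), w.app = z := by
      refine ⟨⟨z, fun n => ?_⟩, rfl⟩
      rw [FSch.complMod_e, FSch.complMod_e, Iso.app_hom, Iso.app_hom]
      delta FSch.complTransIso
      refine comm_of_adjuncts _ _ _ _ (z (n + 1)) (z n) ?_
      rw [hz (n + 1), hz n]
      exact hy n
    obtain ⟨φ, hφ⟩ := (h D _ hD hO).2 w
    refine ⟨φ, fun n => ?_⟩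
    rw [← adjunct_map φ, ← hz n, ← hw, ← hφ]
    rfl

end Groth.Agent.H95.LefFEt.Completion
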