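import Groth.Agent.H95.LefFEt.Clopen
import Groth.Agent.H81.PushLocFree
import Groth.Agent.Lib.FEt.FullyFaithful
import Mathlib.AlgebraicGeometry.Morphisms.ClosedImmersion
import Mathlib.AlgebraicGeometry.Morphisms.Etale

/-!
Restriction of finite étale covers to a closed subscheme under the Lefschetz condition.
-/

set_option autoImplicit false
universe u

open CategoryTheory CategoryTheory.Limits AlgebraicGeometry Opposite TopologicalSpace
open Groth.Agent.Lib.TensorMod
open Groth.Agent.Lib.TensorMod.Dual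
open Groth.Agent.Lib.Modules.DualBasis

namespace Groth.Agent.H95.LefFEt.Main

theorem isClopen_basicOpen {W : Scheme.{u}} {U : W.Opens} (hU : U = ⊤) (e : Γ(W, U))
    (he : e * e = e) : IsClopen (W.basicOpen e : Set W) := by
  subst hU
  refine ⟨isOpen_compl_iff.mp ?_, (W.basicOpen e).2⟩
  suffices h : (W.basicOpen e : Set W)ᶜ = W.basicOpen (1 - e) by rw [h]; exact (W.basicOpen _).2
  ext w
  simp only [Set.mem_compl_iff, SetLike.mem_coe, Scheme.mem_basicOpen _ _ _ (show w ∈ (⊤ : W.Opens) from trivial)]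
  rw [map_sub, map_one]
  have h : IsIdempotentElem (W.presheaf.germ ⊤ w trivial e) := by
    show _ * _ = _
    rw [← map_mul, he]
  rcases IsLocalRing.isUnit_or_isUnit_one_sub_self (W.presheaf.germ ⊤ w trivial e) with hu | hu
  · have h1 : W.presheaf.germ ⊤ w trivial e = 1 := IsUnit.mul_left_cancel hu (h.trans (mul_one _).symm)
    rw [h1]; simp
  · refine iff_of_true (fun hu' => ?_) hu
    have h1 : W.presheaf.germ ⊤ w trivial e = 1 := IsUnit.mul_left_cancel hu' (h.trans (mul_one _).symm)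
    rw [h1] at hu; simp at hu

theorem exists_idem {W : Scheme.{u}} {s : Set W} (hs : IsClopen s) :
    ∃ e : Γ(W, ⊤), e * e = e ∧ (W.basicOpen e : Set W) = s := by
  let V : Bool → W.Opens := fun b => cond b ⟨s, hs.isOpen⟩ ⟨sᶜ, hs.compl.isOpen⟩
  let t : ∀ b, Γ(W, V b) := fun b => match b with
    | true => 1
    | false => 0
  have hd : ∀ a b, a ≠ b → Subsingleton Γ(W, V a ⊓ V b) := fun a b hab => by
    have : V a ⊓ V b = ⊥ := by
      apply Opens.ext
      cases a <;> cases b <;> simp [V] at hab ⊢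
    rw [this]; infer_instance
  obtain ⟨e, he, -⟩ := TopCat.Sheaf.existsUnique_gluing' W.sheaf V ⊤ (fun b => homOfLE le_top)
    (fun w _ => Opens.mem_iSup.mpr <| (em (w ∈ s)).elim (fun h => ⟨true, h⟩) fun h => ⟨false, h⟩) t
    (fun a b => by
      rcases eq_or_ne a b with rfl | hab
      · rfl
      · exact (hd a b hab).elim _ _)
  change Γ(W, ⊤) at e
  have he' : ∀ b, W.presheaf.map (homOfLE (le_top : V b ≤ ⊤)).op e = t b := he
  refine ⟨e, ?_, ?_⟩
  · refine TopCat.Sheaf.eq_of_locally_eq' W.sheaf V ⊤ (fun b => homOfLE le_top)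
      (fun w _ => Opens.mem_iSup.mpr <| (em (w ∈ s)).elim (fun h => ⟨true, h⟩) fun h => ⟨false, h⟩) _ _
      fun b => ?_
    show (W.presheaf.map (homOfLE (le_top : V b ≤ ⊤)).op).hom (e * e) = (W.presheaf.map _).hom e
    rw [map_mul, show (W.presheaf.map (homOfLE (le_top : V b ≤ ⊤)).op).hom e = t b from he' b]
    cases b <;> simp [t]
  · ext w
    simp only [SetLike.mem_coe, Scheme.mem_basicOpen _ _ _ (show w ∈ (⊤ : W.Opens) from trivial)]
    by_cases hw : w ∈ s
    · refine iff_of_true ?_ hw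
      rw [← W.presheaf.germ_res_apply (homOfLE (le_top : V true ≤ ⊤)) w hw e,
        he' true]
      simp [t]
    · refine iff_of_false ?_ hw
      rw [← W.presheaf.germ_res_apply (homOfLE (le_top : V false ≤ ⊤)) w hw e,
        he' false]
      simp [t]

variable {X : Scheme.{u}} (𝓘 : X.IdealSheafData)

theorem full_and_faithful
    (h : ∀ E : X.Modules, FlatMod.IsFinLocFree E → Lef.HomToFormalBijective 𝓘 (dual E)) :
    (FEt.restrict 𝓘.subschemeι).Full ∧ (FEt.restrict 𝓘.subschemeι).Faithful := by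
  refine Lib.FEt.FullyFaithful.full_and_faithful _ (fun s hs hne => ?_) fun W C hC => ?_
  · by_contra hdis
    obtain ⟨e, he, hes⟩ := exists_idem hs
    have hfl := H81.PushLocFree.isFinLocFree_push (𝟙 X)
    have hE := hasDBases_of_isFinLocFree hfl
    have h0 := Clopen.eq_zero_of_mem_K (𝟙 X) 𝓘 hE (h _ hfl).1
      (show Γ(Clopen.push (𝟙 X), ⊤) from e) fun n U m _ => by
        have hout : ∀ w, w ∈ Clopen.Z (𝟙 X) 𝓘 → w ∉ s := fun w hw hws =>
          hdis ⟨w, hws, by rw [Scheme.IdealSheafData.range_subschemeι]; exact hw⟩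
        have h1 : (show Γ(X, (𝟙 X) ⁻¹ᵁ U.1) from X.presheaf.map (homOfLE le_top).op e) ∈
            Clopen.L (𝟙 X) 𝓘 s n U := by
          refine ⟨?_, fun w hw hwZ => ?_⟩
          · rw [← map_mul, he, sub_self]; exact Ideal.zero_mem _
          · refine iff_of_false (fun hb => hout w hwZ ?_) (hout w hwZ)
            rw [Scheme.basicOpen_res] at hb
            exact hes ▸ hb.2
        have h2 : (0 : Γ(X, (𝟙 X) ⁻¹ᵁ U.1)) ∈ Clopen.L (𝟙 X) 𝓘 s n U :=
          ⟨by rw [mul_zero, sub_zero]; exact Ideal.zero_mem _, fun w hw hwZ => iff_of_false (by rw [Scheme.basicOpen_zero]; exact id) (hout w hwZ)⟩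
        have h3 := Clopen.L_sub_mem (𝟙 X) 𝓘 h1 h2
        rw [sub_zero] at h3
        exact h3
    rw [show e = 0 from h0, Scheme.basicOpen_zero] at hes
    exact hne.ne_empty (hes.symm.trans Opens.coe_bot)
  · let π : W.left ⟶ X := W.hom
    haveI : Etale π := W.prop.2
    haveI : IsFinite π := W.prop.1
    have hfl := H81.PushLocFree.isFinLocFree_push π
    let q := pullback.fst W.hom 𝓘.subschemeι
    have hqc : Topology.IsClosedEmbedding q := (pullback.fst W.hom 𝓘.subschemeι).isClosedEmbedding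
    have hrange : Set.range q = Clopen.Z π 𝓘 := by
      rw [Scheme.Pullback.range_fst, Scheme.IdealSheafData.range_subschemeι]; rfl
    have hsub : q '' C ⊆ Clopen.Z π 𝓘 := hrange ▸ Set.image_subset_range _ _
    obtain ⟨x, hx, hxC⟩ := Clopen.exists_idem π 𝓘 (hasDBases_of_isFinLocFree hfl)
      (h _ hfl) (C := q '' C)
      (by rw [Set.inter_eq_left.mpr hsub]; exact hqc.isClosedMap _ hC.isClosed)
      (by rw [← hrange, ← Set.image_compl_eq_range_sdiff_image hqc.injective]
          exact hqc.isClosedMap _ hC.compl.isClosed)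
    refine ⟨W.left.basicOpen x, isClopen_basicOpen rfl x hx, ?_⟩
    ext c
    exact (hxC (q c) (hrange ▸ ⟨c, rfl⟩)).trans (hqc.injective.mem_set_image)

end Groth.Agent.H95.LefFEt.Main
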