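import Groth.Agent.H95.LefFEt.FormalHom
import Groth.Agent.Lib.TensorMod.QCohInv
import Groth.Agent.Lib.QCoh.Localizing
import Groth.Agent.Lib.Modules.Free
import Mathlib.AlgebraicGeometry.QuasiAffine

/-!
On a quasi-affine scheme formal functions determine formal forms.
-/

set_option autoImplicit false
universe u

open CategoryTheory AlgebraicGeometry Opposite TopologicalSpace
open Groth.Agent.Lib.TensorMod
open Groth.Agent.Lib.TensorMod.Dual
open Groth.Agent.Lib.Modules.DualBasis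
open Groth.Agent.Lib.Modules.TensorSec

namespace Groth.Agent.H95.LefFEt.QAff

variable {X : Scheme.{u}} {E N : X.Modules}

lemma rf_mul {U V : X.Opens} (h : V ≤ U) (a b : Γ(X, U)) : rf h (a * b) = rf h a * rf h b :=
  map_mul (X.presheaf.map (homOfLE h).op).hom a b

lemma rf_add {U V : X.Opens} (h : V ≤ U) (a b : Γ(X, U)) : rf h (a + b) = rf h a + rf h b :=
  map_add (X.presheaf.map (homOfLE h).op).hom a b

lemma rf_sub {U V : X.Opens} (h : V ≤ U) (a b : Γ(X, U)) : rf h (a - b) = rf h a - rf h b :=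
  map_sub (X.presheaf.map (homOfLE h).op).hom a b

lemma rf_pow {U V : X.Opens} (h : V ≤ U) (a : Γ(X, U)) (k : ℕ) : rf h (a ^ k) = rf h a ^ k :=
  map_pow (X.presheaf.map (homOfLE h).op).hom a k

lemma eq_smul_of_eq {R M : Type*} [CommSemiring R] [AddCommMonoid M] [Module R M] {c a : R} {δ d : M}
    (h : d = a • δ) (hc : c * a = 1) : δ = c • d := by
  rw [h, smul_smul, hc, one_smul]

variable (E) in
/-- A chart: sections of the dual are global ones over powers of `r`. -/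
structure IsChart (T : X.Opens) (r : Γ(X, ⊤)) : Prop where
  frame : ∃ n, Nonempty (DBasis E T n)
  unit : IsUnit (rf (le_top : T ≤ ⊤) r)
  num : ∀ δ : Γ(dual E, T), ∃ (k : ℕ) (d : Γ(dual E, ⊤)),
    rs _ le_top d = rf (le_top : T ≤ ⊤) r ^ k • δ
  sep : ∀ d : Γ(dual E, ⊤), rs _ (le_top : T ≤ ⊤) d = 0 → ∃ k : ℕ, r ^ k • d = 0
  numF : ∀ g : Γ(X, T), ∃ (k : ℕ) (G : Γ(X, ⊤)),
    rf (le_top : T ≤ ⊤) G = rf (le_top : T ≤ ⊤) r ^ k * g

theorem exists_chart [X.IsQuasiAffine] (hE : FlatMod.IsFinLocFree E) (x : X) :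
    ∃ T r, x ∈ T ∧ IsChart E T r := by
  obtain ⟨V, n, hxV, -, ⟨B⟩⟩ :=
    exists_dBasis_le (hasDBases_of_isFinLocFree hE) (show x ∈ (⊤ : X.Opens) from trivial)
  obtain ⟨_, ⟨_, ⟨r, hr, rfl⟩, rfl⟩, hxr, hle⟩ :=
    (Scheme.IsQuasiAffine.isBasis_basicOpen X).exists_subset_of_mem_open hxV V.isOpen
  haveI := Lib.TensorMod.QCohInv.isQCoh_of_isFinLocFree (Bidual.isFinLocFree_dual hE)
  have hL := Lib.QCoh.Localizing.localizes_of_qcqs (dual E) (U := ⊤) isCompact_univ
    isQuasiSeparated_univ r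
  haveI := Lib.TensorMod.QCohInv.isQCoh_structureModule X
  have hL' := Lib.QCoh.Localizing.localizes_of_qcqs (Coh.structureModule X) (U := ⊤) isCompact_univ
    isQuasiSeparated_univ r
  refine ⟨X.basicOpen r, r, hxr, ⟨n, ⟨B.res hle⟩⟩, ?_, fun δ => hL.ext' δ, fun d hd => hL.sep d hd,
    fun g => hL'.ext' g⟩
  exact X.toRingedSpace.isUnit_res_basicOpen r

theorem chart_eq_sum {T : X.Opens} {r : Γ(X, ⊤)} (hT : IsChart E T r) {n : ℕ} (B : DBasis E T n)
    (i : Fin n) : ∃ (c : Γ(X, T)) (d : Γ(dual E, ⊤)),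
      (show Γ(dual E, T) from B.f i) = c • rs _ le_top d := by
  obtain ⟨k, d, hd⟩ := hT.num (B.f i)
  obtain ⟨c, hc⟩ := (hT.unit.pow k).exists_left_inv
  exact ⟨c, d, eq_smul_of_eq hd hc⟩

/-- Morphisms out of the dual are determined by global sections. -/
theorem hom_ext_global (hch : ∀ x : X, ∃ T r, x ∈ T ∧ IsChart E T r) {φ φ' : dual E ⟶ N}
    (h : ∀ d, φ.app ⊤ d = φ'.app ⊤ d) : φ = φ' := by
  refine Scheme.Modules.hom_ext _ _ fun V => ?_
  ext ψ
  refine section_ext _ _ _ fun x hx => ?_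
  obtain ⟨T, r, hxT, hT⟩ := hch x
  obtain ⟨n, ⟨B⟩⟩ := hT.frame
  refine ⟨V ⊓ T, inf_le_left, ⟨hx, hxT⟩, ?_⟩
  rw [HomGlue.rs_app, HomGlue.rs_app]
  have key : ∀ i, φ.app (V ⊓ T) (dualRes E inf_le_right (B.f i)) =
      φ'.app (V ⊓ T) (dualRes E inf_le_right (B.f i)) := by
    intro i
    obtain ⟨c, d, e⟩ := chart_eq_sum hT B i
    change φ.app (V ⊓ T) (rs (dual E) inf_le_right (show Γ(dual E, T) from B.f i)) =
      φ'.app (V ⊓ T) (rs (dual E) inf_le_right (show Γ(dual E, T) from B.f i))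
    rw [e, rs_smul, Scheme.Modules.Hom.app_smul, Scheme.Modules.Hom.app_smul, rs_rs,
      ← HomGlue.rs_app, ← HomGlue.rs_app, h]
  have h1 := sum_dual (B.res inf_le_right) (dualRes E (inf_le_left : V ⊓ T ≤ V) ψ)
  change φ.app (V ⊓ T) (show Γ(dual E, V ⊓ T) from dualRes E inf_le_left ψ) =
    φ'.app (V ⊓ T) (show Γ(dual E, V ⊓ T) from dualRes E inf_le_left ψ)
  rw [← h1]
  refine (map_sum (φ.app (V ⊓ T)).hom _ _).trans (Eq.trans ?_ (map_sum (φ'.app (V ⊓ T)).hom _ _).symm)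
  refine Finset.sum_congr rfl fun i _ => ?_
  refine (Scheme.Modules.Hom.app_smul φ _ _).trans (Eq.trans ?_ (Scheme.Modules.Hom.app_smul φ' _ _).symm)
  exact congrArg _ (key i)

/-- A linear map on global forms is evaluation at a section. -/
theorem exists_eval (hch : ∀ x : X, ∃ T r, x ∈ T ∧ IsChart E T r) (f : Γ(dual E, ⊤) →ₗ[Γ(X, ⊤)] Γ(X, ⊤)) :
    ∃ x : Γ(E, ⊤), ∀ d : DualSec E ⊤, d.app le_rfl x = f d := by
  classical
  choose T r hxT hT using hch
  choose n B using fun p => (hT p).frame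
  have hfT : ∀ p, ∃ g : Γ(dual E, T p) →ₗ[Γ(X, T p)] Γ(X, T p),
      ∀ d, g (rs _ le_top d) = rf le_top (f d) := by
    intro p
    obtain ⟨u, hu⟩ := (hT p).unit.exists_left_inv
    let ρ : Γ(X, T p) := rf (le_top : T p ≤ ⊤) (r p)
    choose K D hD using (hT p).num
    have huk : ∀ k, u ^ k * ρ ^ k = 1 := fun k => by rw [← mul_pow, hu, one_pow]
    have hwd : ∀ δ (k : ℕ) (d : Γ(dual E, ⊤)), rs _ le_top d = ρ ^ k • δ →
        u ^ (K δ) * rf le_top (f (D δ)) = u ^ k * rf le_top (f d) := by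
      intro δ k d hd
      have h0 : rs _ (le_top : T p ≤ ⊤) (r p ^ (K δ) • d - r p ^ k • D δ) = 0 := by
        have e : ∀ a b : Γ(dual E, ⊤), rs _ (le_top : T p ≤ ⊤) (a - b) =
            rs _ le_top a - rs _ le_top b := fun a b => map_sub _ _ _
        rw [e, rs_smul, rs_smul, hd, hD δ, rf_pow, rf_pow, smul_smul, smul_smul,
          mul_comm (ρ ^ k), sub_self]
      obtain ⟨m, hm⟩ := (hT p).sep _ h0
      have h1 := congrArg (fun z => rf (le_top : T p ≤ ⊤) (f z)) hm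
      simp only [map_smul, map_sub, smul_eq_mul, rf_mul, rf_sub, rf_pow] at h1
      rw [map_zero, show rf (le_top : T p ≤ ⊤) (0 : Γ(X, ⊤)) = 0 from map_zero _] at h1
      have h2 : ρ ^ (K δ) * rf le_top (f d) = ρ ^ k * rf le_top (f (D δ)) :=
        sub_eq_zero.mp (((hT p).unit.pow m).mul_right_eq_zero.mp h1)
      calc u ^ (K δ) * rf le_top (f (D δ))
          = u ^ (K δ) * (u ^ k * ρ ^ k) * rf le_top (f (D δ)) := by rw [huk, mul_one]
        _ = u ^ (K δ) * u ^ k * (ρ ^ k * rf le_top (f (D δ))) := by ring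
        _ = u ^ k * (u ^ (K δ) * ρ ^ (K δ)) * rf le_top (f d) := by rw [← h2]; ring
        _ = _ := by rw [huk, mul_one]
    refine ⟨{ toFun := fun δ => u ^ (K δ) * rf le_top (f (D δ))
              map_add' := fun a b => ?_
              map_smul' := fun g a => ?_ }, fun d => ?_⟩
    · rw [hwd (a + b) (K a + K b) (r p ^ (K b) • D a + r p ^ (K a) • D b) ?_]
      · simp only [map_add, map_smul, smul_eq_mul, rf_mul, rf_add, rf_pow]
        calc u ^ (K a + K b) * (ρ ^ K b * rf le_top (f (D a)) + ρ ^ K a * rf le_top (f (D b)))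
            = u ^ K a * (u ^ K b * ρ ^ K b) * rf le_top (f (D a)) +
              u ^ K b * (u ^ K a * ρ ^ K a) * rf le_top (f (D b)) := by ring
          _ = _ := by rw [huk, huk, mul_one, mul_one]
      · have e : ∀ a b : Γ(dual E, ⊤), rs _ (le_top : T p ≤ ⊤) (a + b) =
            rs _ le_top a + rs _ le_top b := fun a b => map_add _ _ _
        rw [e, rs_smul, rs_smul, hD, hD, rf_pow, rf_pow, smul_smul, smul_smul, pow_add, smul_add,
          mul_comm (ρ ^ K a) (ρ ^ K b)]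
    · obtain ⟨m, G, hG⟩ := (hT p).numF g
      rw [hwd (g • a) (m + K a) (G • D a) ?_]
      · simp only [map_smul, smul_eq_mul, rf_mul, RingHom.id_apply, hG]
        calc u ^ (m + K a) * (ρ ^ m * g * rf le_top (f (D a)))
            = (u ^ m * ρ ^ m) * g * (u ^ K a * rf le_top (f (D a))) := by ring
          _ = _ := by rw [huk, one_mul]
      · rw [rs_smul, hG, hD, smul_smul, smul_smul]
        congr 1
        ring
    · show u ^ _ * _ = _
      rw [hwd (rs _ le_top d) 0 d (by rw [pow_zero, one_smul]), pow_zero, one_mul]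
  choose g hg using hfT
  let a : ∀ p, Γ(E, T p) := fun p => ∑ i, g p ((B p).some.f i) • (B p).some.e i
  have hval : ∀ p (δ : DualSec E (T p)), δ.app le_rfl (a p) = g p δ := by
    intro p δ
    conv_rhs => rw [← sum_dual (B p).some δ]
    simp only [a, map_sum, map_smul, smul_eq_mul]
    refine Eq.trans ?_ (map_sum (g p) _ _).symm
    refine Finset.sum_congr rfl fun i _ => ?_
    exact ((g p).map_smul _ _).trans (mul_comm _ _) |>.symm
  have hd : ∀ p (W : X.Opens) (hW : W ≤ T p) (d : Γ(dual E, ⊤)),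
      (show DualSec E W from rs _ le_top d).app le_rfl (rs E hW (a p)) = rf le_top (f d) := by
    intro p W hW d
    have h1 := congrArg (rf hW) ((hval p (rs _ le_top d)).trans (hg p d))
    rw [rf_rf] at h1
    exact (DualSec.compat (show DualSec E (T p) from rs (dual E) (le_top : T p ≤ ⊤) d) le_rfl hW (a p)).symm.trans h1
  have hcompat : ∀ p q, rs E (inf_le_left : T p ⊓ T q ≤ T p) (a p) = rs E inf_le_right (a q) := by
    intro p q
    refine Bidual.eq_of_forms (fun x => ⟨T x, n x, hxT x, B x⟩) fun W hW ψ => ?_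
    rw [rs_rs, rs_rs, ← sum_dual ((B p).some.res (hW.trans inf_le_left)) ψ]
    let ev : Γ(E, W) → (DualSec E W →ₗ[Γ(X, W)] Γ(X, W)) := fun z =>
      { toFun := fun φ => φ.app le_rfl z
        map_add' := fun φ φ' => Dual.add_app E φ φ' le_rfl z
        map_smul' := fun c φ => by rw [Dual.smul_app, Dual.rf_self]; rfl }
    change ev _ _ = ev _ _
    rw [map_sum, map_sum]
    refine Finset.sum_congr rfl fun i _ => ?_
    rw [map_smul, map_smul]
    refine congrArg _ ?_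
    obtain ⟨c, d, e⟩ := chart_eq_sum (hT p) (B p).some i
    have e' : ((B p).some.res (hW.trans inf_le_left)).f i =
        rf (hW.trans inf_le_left) c • (show DualSec E W from rs (dual E) le_top d) := by
      show rs (dual E) (hW.trans inf_le_left) (show Γ(dual E, T p) from (B p).some.f i) = _
      rw [e, rs_smul, rs_rs]
      rfl
    rw [e', map_smul, map_smul]
    exact congrArg _ ((hd p W _ d).trans (hd q W _ d).symm)
  obtain ⟨x, hx, -⟩ := TopCat.Sheaf.existsUnique_gluing' (⟨E.presheaf, E.isSheaf⟩ : TopCat.Sheaf Ab X)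
    T ⊤ (fun p => homOfLE le_top) (fun y _ => Opens.mem_iSup.mpr ⟨y, hxT y⟩) a hcompat
  refine ⟨x, fun d => ?_⟩
  refine TopCat.Sheaf.eq_of_locally_eq' X.sheaf T ⊤ (fun p => homOfLE le_top)
    (fun y _ => Opens.mem_iSup.mpr ⟨y, hxT y⟩) _ _ fun p => ?_
  show rf (le_top : T p ≤ ⊤) (d.app le_rfl x) = rf le_top (f d)
  rw [← hd p (T p) le_rfl d, DualSec.compat, rs_self]
  show d.app _ (rs E le_top x) = (dualRes E le_top d).app le_rfl (a p)
  rw [dualRes_app, show rs E le_top x = a p from hx p]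

lemma unit_comp {M M' : X.Modules} (m : Γ(M, ⊤)) (φ : M ⟶ M') :
    Lib.Modules.Free.unitHom M m ≫ φ = Lib.Modules.Free.unitHom M' (φ.app ⊤ m) :=
  Lib.Modules.Free.unitHom_ext ((congrArg (φ.app ⊤) (Lib.Modules.Free.unitHom_app_one M m)).trans
    (Lib.Modules.Free.unitHom_app_one M' (φ.app ⊤ m)).symm)

lemma unit_injective {M : X.Modules} {m m' : Γ(M, ⊤)}
    (h : Lib.Modules.Free.unitHom M m = Lib.Modules.Free.unitHom M m') : m = m' :=
  (Lib.Modules.Free.unitHom_app_one M m).symm.trans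
    ((congrArg (fun φ : Coh.structureModule X ⟶ M => φ.app ⊤ (1 : Γ(X, ⊤))) h).trans
      (Lib.Modules.Free.unitHom_app_one M m'))

theorem homToFormalBijective [X.IsQuasiAffine] (hE : FlatMod.IsFinLocFree E) (𝓘 : X.IdealSheafData)
    (h : Lef.HomToFormalBijective 𝓘 (Coh.structureModule X)) :
    Lef.HomToFormalBijective 𝓘 (dual E) := by
  have hch := exists_chart hE
  have hinj : ∀ a b : Γ(X, ⊤), (∀ n, (ClSub.toSubscheme (𝓘 ^ (n + 1))).app ⊤ a =
      (ClSub.toSubscheme (𝓘 ^ (n + 1))).app ⊤ b) → a = b := by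
    intro a b hab
    exact unit_injective (M := Coh.structureModule X) (h.1 _ _ fun n =>
      (unit_comp _ _).trans ((congrArg _ (hab n)).trans (unit_comp _ _).symm))
  refine ⟨fun φ φ' he => hom_ext_global hch fun d => hinj _ _ fun n =>
    congrArg (fun χ : dual E ⟶ ClSub.quotMod (𝓘 ^ (n + 1)) => χ.app ⊤ d) (he n), fun y hy => ?_⟩
  have hex : ∀ d : Γ(dual E, ⊤), ∃ a : Γ(X, ⊤), ∀ n,
      (ClSub.toSubscheme (𝓘 ^ (n + 1))).app ⊤ a = (y n).app ⊤ d := by
    intro d
    obtain ⟨φ, hφ⟩ := h.2 (fun n => Lib.Modules.Free.unitHom (ClSub.quotMod (𝓘 ^ (n + 1))) ((y n).app ⊤ d))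
      fun n => (unit_comp _ _).trans (congrArg _
        (congrArg (fun χ : dual E ⟶ ClSub.quotMod (𝓘 ^ (n + 1)) => χ.app ⊤ d) (hy n)))
    refine ⟨φ.app ⊤ (1 : Γ(X, ⊤)), fun n => ?_⟩
    exact (congrArg (fun χ : Coh.structureModule X ⟶ ClSub.quotMod (𝓘 ^ (n + 1)) =>
      χ.app ⊤ (1 : Γ(X, ⊤))) (hφ n)).trans (Lib.Modules.Free.unitHom_app_one _ _)
  choose f hf using hex
  let fl : Γ(dual E, ⊤) →ₗ[Γ(X, ⊤)] Γ(X, ⊤) :=
    { toFun := f
      map_add' := fun a b => hinj _ _ fun n => by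
        have tadd : ∀ u v : Γ(X, ⊤), (ClSub.toSubscheme (𝓘 ^ (n + 1))).app ⊤ (u + v) =
            (ClSub.toSubscheme (𝓘 ^ (n + 1))).app ⊤ u + (ClSub.toSubscheme (𝓘 ^ (n + 1))).app ⊤ v :=
          fun u v => map_add ((ClSub.toSubscheme (𝓘 ^ (n + 1))).app ⊤).hom u v
        rw [tadd, hf, hf, hf, map_add]
      map_smul' := fun c a => hinj _ _ fun n => by
        rw [RingHom.id_apply, hf, Scheme.Modules.Hom.app_smul, smul_eq_mul, FormalHom.toSub_smul, hf] }
  obtain ⟨x, hx⟩ := exists_eval hch fl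
  refine ⟨Bidual.evalHom x, fun n => hom_ext_global hch fun d => ?_⟩
  show (ClSub.toSubscheme _).app ⊤ ((show DualSec E ⊤ from d).app le_rfl (rs E le_top x)) = _
  rw [rs_self, hx]
  exact hf d n

end Groth.Agent.H95.LefFEt.QAff
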